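import Cfsg.Agent.ZN.ChoiceBase
import Mathlib.GroupTheory.PGroup
import Mathlib.GroupTheory.Perm.Cycle.Type
import Cfsg.Agent.MinSimple.MinParabolic
import Mathlib.Algebra.Group.Subgroup.Pointwise
import Cfsg.Agent.ZN.ChoiceSit
import Cfsg.Agent.PLocal.ElemAbSup
import Cfsg.Agent.PLocal.Uniserial

section


/-!
# SymManyL (E): the partners (helper661; (e) of helper457 #23655)

* `exists_pair` : a 2-group which is transitive on a set with at least two points: two points `a ≠ b` with the same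
  stabiliser, exchanged by some element;
* `exists_partners` : the same for a 2-group `S` permuting a family of subgroups transitively by conjugation.
-/

set_option autoImplicit false

namespace Cfsg.Agent.Omega.NO3S.ESym

open Subgroup Cfsg Cfsg.Agent.ZN.ChoiceBase

/-- a transitive 2-group has two points with the same stabiliser, exchanged by an element -/
theorem exists_pair {H : Type*} [Group H] [Finite H] (hH : IsPGroup 2 H) {α : Type*} [MulAction H α]
    (htr : ∀ a b : α, ∃ h : H, h • a = b) (hnt : ∃ a b : α, a ≠ b) :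
    ∃ (a b : α) (s : H), a ≠ b ∧ s • a = b ∧ s • b = a ∧ ∀ h : H, h • a = a ↔ h • b = b := by
  obtain ⟨a₀, b₀, hab⟩ := hnt
  set R : Subgroup (Equiv.Perm α) := (MulAction.toPermHom H α).range with hR
  have hfin : Finite R := Finite.of_surjective _ (MulAction.toPermHom H α).rangeRestrict_surjective
  have hRp : IsPGroup 2 R := hH.of_surjective _ (MulAction.toPermHom H α).rangeRestrict_surjective
  have hnt : Nontrivial R := by
    obtain ⟨h, hh⟩ := htr a₀ b₀
    refine ⟨⟨⟨MulAction.toPermHom H α h, ⟨h, rfl⟩⟩, 1, fun he => hab ?_⟩⟩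
    have h1 : MulAction.toPermHom H α h = 1 := congrArg Subtype.val he
    have h2 : h • a₀ = a₀ := by
      have := congrArg (fun f : Equiv.Perm α => f a₀) h1
      simpa using this
    rw [← hh, h2]
  have hc : Nontrivial (center R) := hRp.center_nontrivial
  have hcp : IsPGroup 2 (center R) := hRp.to_subgroup _
  have h2 : 2 ∣ Nat.card (center R) := by
    rcases hcp.card_eq_or_dvd with h | h
    · exact absurd h (Finite.one_lt_card).ne'
    · exact h
  obtain ⟨c, hc2⟩ := exists_prime_orderOf_dvd_card' 2 h2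
  obtain ⟨⟨⟨c, s, hs⟩, hcen⟩, rfl⟩ : ∃ x, x = c := ⟨c, rfl⟩
  have hcc : ∀ h : H, ∀ a : α, h • s • a = s • h • a := by
    intro h a
    have h1 := mem_center_iff.1 hcen ⟨MulAction.toPermHom H α h, ⟨h, rfl⟩⟩
    have h3 : MulAction.toPermHom H α h * c = c * MulAction.toPermHom H α h := congrArg Subtype.val h1
    rw [← hs] at h3
    have h4 := congrArg (fun f : Equiv.Perm α => f a) h3
    simpa using h4
  have hsq : ∀ a : α, s • s • a = a := by
    intro a
    have h1 := pow_orderOf_eq_one (⟨⟨c, s, hs⟩, hcen⟩ : center R)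
    rw [hc2] at h1
    have h3 : c ^ 2 = 1 := congrArg (fun x : center R => (x : R).1) h1
    rw [← hs, pow_two] at h3
    have h4 := congrArg (fun f : Equiv.Perm α => f a) h3
    simpa using h4
  have hne : ∃ a : α, s • a ≠ a := by
    by_contra hcon
    push Not at hcon
    have h1 : c = 1 := by
      rw [← hs]
      ext a
      simpa using hcon a
    have h3 : (⟨⟨c, s, hs⟩, hcen⟩ : center R) = 1 := Subtype.ext (Subtype.ext h1)
    rw [h3, orderOf_one] at hc2
    omega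
  obtain ⟨a, ha⟩ := hne
  refine ⟨a, s • a, s, ha.symm, rfl, hsq a, fun h => ?_⟩
  rw [hcc]
  constructor
  · intro h1; rw [h1]
  · intro h1
    exact MulAction.injective s h1

variable {G : Type*} [Group G]

/-- **The partners.** -/
theorem exists_partners [Finite G] {S : Subgroup G} (hS : IsPGroup 2 S) {κ : Type*} {F : κ → Subgroup G}
    (inj : Function.Injective F) (perm : ∀ x ∈ S, ∀ j, ∃ i, cj x (F j) = F i)
    (tr : ∀ i j, ∃ x ∈ S, cj x (F i) = F j) (hnt : ∃ i j : κ, i ≠ j) :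
    ∃ (b : Fin 2 → κ) (s : G), b 0 ≠ b 1 ∧ s ∈ S ∧ (∀ i, cj s (F (b i)) = F (b (i + 1))) ∧
      S ⊓ normalizer (F (b 0) : Set G) = S ⊓ normalizer (F (b 1) : Set G) := by
  classical
  let _ : MulAction S (Set.range F) :=
    { smul := fun x y => ⟨cj (x : G) y.1, by
        obtain ⟨H, j, rfl⟩ := y
        obtain ⟨i, hi⟩ := perm x x.2 j
        exact ⟨i, hi.symm⟩⟩
      one_smul := fun y => Subtype.ext (cj_one _)
      mul_smul := fun x x' y => Subtype.ext (cj_cj (x : G) (x' : G) y.1).symm }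
  have hsm : ∀ (x : S) (y : Set.range F), ((x • y : Set.range F) : Subgroup G) = cj (x : G) y.1 := fun _ _ => rfl
  obtain ⟨⟨_, a, rfl⟩, ⟨_, b, rfl⟩, s, hab, h1, h2, h3⟩ := exists_pair (H := S) (α := Set.range F) hS
    (by
      rintro ⟨_, i, rfl⟩ ⟨_, j, rfl⟩
      obtain ⟨x, hx, he⟩ := tr i j
      exact ⟨⟨x, hx⟩, Subtype.ext he⟩)
    (by
      obtain ⟨i, j, hij⟩ := hnt
      exact ⟨⟨F i, i, rfl⟩, ⟨F j, j, rfl⟩, fun he => hij (inj (congrArg Subtype.val he))⟩)
  have e1 : cj (s : G) (F a) = F b := congrArg Subtype.val h1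
  have e2 : cj (s : G) (F b) = F a := congrArg Subtype.val h2
  refine ⟨![a, b], s, ?_, s.2, ?_, ?_⟩
  · intro he
    apply hab
    have : a = b := he
    rw [this]
  · intro i
    fin_cases i
    · exact e1
    · exact e2
  · ext x
    simp only [mem_inf, Matrix.cons_val_zero, Matrix.cons_val_one]
    refine and_congr_right fun hx => ?_
    have h4 := h3 ⟨x, hx⟩
    rw [mem_normalizer_iff_cj, mem_normalizer_iff_cj]
    constructor
    · intro h5
      exact congrArg Subtype.val (h4.1 (Subtype.ext h5))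
    · intro h5
      exact congrArg Subtype.val (h4.2 (Subtype.ext h5))

end Cfsg.Agent.Omega.NO3S.ESym

end

section


/-!
# SymMany (E): (QP) and LEMMA G' (bb #22692 (1), (2)), abstract part

`T ≤ D ≤ H`, `z` fixed by `T`.

* `qp` : if `⟨R, D⟩ = H` for every minimal parabolic `R ≤ H` over `T` and for `R = N_H(T)`, provided `R` moves `z`,
  then `H = K D` for every `K` normalised by `H` which moves `z`;
* `conj_mem` : `C = H ∩ C(V₁)` is normalised by `E` if `E` normalises `V₁`, fixes `z`, and `E` fixes `z^g` for the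
  elements `g` of `C ∩ R`, `R ≤ C T` as before (`C(V₁) ∩ C(z) ≤ H`);
* `not_le` : (G') no `K ≤ C(V₁)` normalised by `H` moves `z`, if `H` and `E` do not normalise a common nontrivial
  group `⟨z^H⟩`.
-/

set_option autoImplicit false

namespace Cfsg.Agent.Omega.NO3S.ESym.GP

open Subgroup Cfsg.Agent.MinSimple.MinParabolic
open scoped Pointwise

universe u

variable {G : Type u} [Group G] [Finite G] {T D H V₁ E K : Subgroup G} {z : G}

omit [Finite G] in
/-- `C T = {c t}` if `T` normalises `C`. -/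
theorem mem_sup_of_normal_right' {C T : Subgroup G} (h : T ≤ normalizer (C : Set G)) {x : G} :
    x ∈ C ⊔ T ↔ ∃ c ∈ C, ∃ t ∈ T, x = c * t := by
  constructor
  · intro hx
    rw [← SetLike.mem_coe, coe_mul_of_right_le_normalizer_left C T h] at hx
    obtain ⟨c, hc, t, ht, e⟩ := Set.mem_mul.1 hx
    exact ⟨c, hc, t, ht, e.symm⟩
  · rintro ⟨c, hc, t, ht, rfl⟩
    exact mul_mem (mem_sup_left hc) (mem_sup_right ht)

/-- A subgroup over `T` which moves `z` contains a minimal parabolic over `T`, or the normaliser of `T` in it, which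
moves `z`. -/
theorem exists_mover {X : Subgroup G} (hT : T ≤ X) (hX : ∃ x ∈ X, x * z ≠ z * x) :
    ∃ R : Subgroup G, R ≤ X ∧ (IsMinPar T R ∨ R = X ⊓ normalizer (T : Set G)) ∧ ∃ r ∈ R, r * z ≠ z * r := by
  by_contra hcon
  push Not at hcon
  obtain ⟨x, hx, hxz⟩ := hX
  have h1 : X ≤ centralizer {z} := by
    refine le_of_forall hT (fun r hr => ?_) fun P hP hPX r hr => ?_
    · exact mem_centralizer_singleton_iff.2 (hcon _ inf_le_left (Or.inr rfl) r hr)
    · exact mem_centralizer_singleton_iff.2 (hcon P hPX (Or.inl hP) r hr)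
  exact hxz (mem_centralizer_singleton_iff.1 (h1 hx))

/-- **(QP)** -/
theorem qp (hTH : T ≤ H) (hTD : T ≤ D)
    (mov : ∀ R : Subgroup G, R ≤ H → (IsMinPar T R ∨ R ≤ normalizer (T : Set G)) → T ≤ R →
      (∃ r ∈ R, r * z ≠ z * r) → H ≤ R ⊔ D)
    (hKH : K ≤ H) (hK : ∃ k ∈ K, k * z ≠ z * k) : H ≤ K ⊔ D := by
  obtain ⟨k, hk, hkz⟩ := hK
  obtain ⟨R, hR, hRt, hRz⟩ := exists_mover (T := T) (X := K ⊔ T) le_sup_right
    ⟨k, mem_sup_left hk, hkz⟩
  have hTR : T ≤ R := by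
    rcases hRt with h | h
    · exact h.le
    · rw [h]; exact le_inf le_sup_right le_normalizer
  have h1 := mov R (hR.trans (sup_le hKH hTH)) (hRt.imp_right fun h => h.trans_le inf_le_right) hTR hRz
  exact h1.trans (sup_le (hR.trans (sup_le le_sup_left (hTD.trans le_sup_right))) le_sup_right)

/-! ### `C = H ∩ C(V₁)` is normalised by `E` -/

/-- the elements of `C` all of whose `E`-conjugates lie in `H` -/
def SS (H V₁ E : Subgroup G) : Subgroup G where
  carrier := {g | (g ∈ H ∧ g ∈ centralizer (V₁ : Set G)) ∧ ∀ l ∈ E, l⁻¹ * g * l ∈ H}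
  mul_mem' := by
    rintro a b ⟨⟨h1, h2⟩, h3⟩ ⟨⟨h4, h5⟩, h6⟩
    refine ⟨⟨mul_mem h1 h4, mul_mem h2 h5⟩, fun l hl => ?_⟩
    have e : l⁻¹ * (a * b) * l = l⁻¹ * a * l * (l⁻¹ * b * l) := by group
    rw [e]
    exact mul_mem (h3 l hl) (h6 l hl)
  one_mem' := ⟨⟨one_mem _, one_mem _⟩, fun l _ => by
    have e : l⁻¹ * 1 * l = 1 := by group
    rw [e]; exact one_mem _⟩
  inv_mem' := by
    rintro a ⟨⟨h1, h2⟩, h3⟩
    refine ⟨⟨inv_mem h1, inv_mem h2⟩, fun l hl => ?_⟩
    have e : l⁻¹ * a⁻¹ * l = (l⁻¹ * a * l)⁻¹ := by group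
    rw [e]
    exact inv_mem (h3 l hl)

omit [Finite G] in
theorem mem_SS {g : G} : g ∈ SS H V₁ E ↔ (g ∈ H ∧ g ∈ centralizer (V₁ : Set G)) ∧ ∀ l ∈ E, l⁻¹ * g * l ∈ H :=
  Iff.rfl

omit [Finite G] in
theorem mem_cz {v g : G} : g ∈ centralizer {v} ↔ g * v = v * g := by
  rw [mem_centralizer_singleton_iff]

omit [Finite G] in
theorem conj_cent {l g : G} (hl : l ∈ normalizer (V₁ : Set G)) (hg : g ∈ centralizer (V₁ : Set G)) :
    l⁻¹ * g * l ∈ centralizer (V₁ : Set G) := by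
  rw [mem_centralizer_iff] at hg ⊢
  intro v hv
  have h1 : l * v * l⁻¹ ∈ V₁ := (mem_normalizer_iff.1 hl v).1 hv
  have h2 := hg _ h1
  calc v * (l⁻¹ * g * l) = l⁻¹ * (l * v * l⁻¹ * g) * l := by group
    _ = l⁻¹ * (g * (l * v * l⁻¹)) * l := by rw [h2]
    _ = l⁻¹ * g * l * v := by group

omit [Finite G] in
/-- one element -/
theorem mem_SS_of {g : G} (hE : E ≤ normalizer (V₁ : Set G)) (hEz : ∀ l ∈ E, l * z = z * l)
    (hcz : centralizer (V₁ : Set G) ⊓ centralizer {z} ≤ H) (hg : g ∈ H) (hgc : g ∈ centralizer (V₁ : Set G))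
    (hgz : ∀ l ∈ E, l * (g⁻¹ * z * g) = g⁻¹ * z * g * l) : g ∈ SS H V₁ E := by
  refine mem_SS.2 ⟨⟨hg, hgc⟩, fun l hl => ?_⟩
  have h1 : l⁻¹ * g * l * g⁻¹ ∈ centralizer (V₁ : Set G) ⊓ centralizer {z} := by
    refine mem_inf.2 ⟨mul_mem (conj_cent (hE hl) hgc) (inv_mem hgc), mem_cz.2 ?_⟩
    have h2 := hgz l hl
    have h3 := hEz l hl
    calc l⁻¹ * g * l * g⁻¹ * z = l⁻¹ * g * (l * (g⁻¹ * z * g)) * g⁻¹ := by group
      _ = l⁻¹ * g * (g⁻¹ * z * g * l) * g⁻¹ := by rw [h2]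
      _ = l⁻¹ * (z * g * l * g⁻¹) := by group
      _ = l⁻¹ * (z * l) * l⁻¹ * (g * l * g⁻¹) := by group
      _ = l⁻¹ * (l * z) * l⁻¹ * (g * l * g⁻¹) := by rw [h3]
      _ = z * (l⁻¹ * g * l * g⁻¹) := by group
  have h2 := mul_mem (hcz h1) hg
  have e : l⁻¹ * g * l * g⁻¹ * g = l⁻¹ * g * l := by group
  rwa [e] at h2

/-- **`C = H ∩ C(V₁)` is normalised by `E`.** -/
theorem conj_mem (hTH : T ≤ H) (hTV : T ≤ normalizer (V₁ : Set G)) (hTE : T ≤ normalizer (E : Set G))
    (hE : E ≤ normalizer (V₁ : Set G)) (hEz : ∀ l ∈ E, l * z = z * l)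
    (hcz : centralizer (V₁ : Set G) ⊓ centralizer {z} ≤ H)
    (typ : ∀ R : Subgroup G, R ≤ H ⊓ centralizer (V₁ : Set G) ⊔ T → T ≤ R →
      (IsMinPar T R ∨ R ≤ normalizer (T : Set G)) → ∀ g ∈ R, g ∈ centralizer (V₁ : Set G) →
        ∀ l ∈ E, l * (g * z * g⁻¹) = g * z * g⁻¹ * l)
    {g : G} (hg : g ∈ H ⊓ centralizer (V₁ : Set G)) {l : G} (hl : l ∈ E) :
    l⁻¹ * g * l ∈ H ⊓ centralizer (V₁ : Set G) := by
  set C := H ⊓ centralizer (V₁ : Set G) with hC
  have hCT : T ≤ normalizer (C : Set G) := by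
    intro t ht
    rw [mem_normalizer_iff]
    intro c
    constructor
    · intro hc
      have h1 := conj_cent (inv_mem (hTV ht)) (mem_inf.1 hc).2
      rw [inv_inv] at h1
      exact mem_inf.2 ⟨mul_mem (mul_mem (hTH ht) (mem_inf.1 hc).1) (inv_mem (hTH ht)), h1⟩
    · intro hc
      have h1 := conj_cent (hTV ht) (mem_inf.1 hc).2
      have e : t⁻¹ * (t * c * t⁻¹) * t = c := by group
      have h2 := mul_mem (mul_mem (inv_mem (hTH ht)) (mem_inf.1 hc).1) (hTH ht)
      rw [e] at h1 h2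
      exact mem_inf.2 ⟨h2, h1⟩
  have hone : ∀ R : Subgroup G, R ≤ C ⊔ T → T ≤ R → (IsMinPar T R ∨ R ≤ normalizer (T : Set G)) →
      ∀ g ∈ R, g ∈ C → g ∈ SS H V₁ E := by
    intro R hR hTR hRt g hg hgC
    refine mem_SS_of hE hEz hcz (mem_inf.1 hgC).1 (mem_inf.1 hgC).2 fun l hl => ?_
    have h1 := typ R hR hTR hRt g⁻¹ (inv_mem hg) (inv_mem (mem_inf.1 hgC).2) l hl
    rwa [inv_inv] at h1
  have hsplit : ∀ R : Subgroup G, R ≤ C ⊔ T → T ≤ R → (IsMinPar T R ∨ R ≤ normalizer (T : Set G)) →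
      R ≤ SS H V₁ E ⊔ T := by
    intro R hR hTR hRt r hr
    obtain ⟨c, hc, t, ht, rfl⟩ := (mem_sup_of_normal_right' hCT).1 (hR hr)
    exact mul_mem (mem_sup_left (hone R hR hTR hRt c
      (by simpa using mul_mem hr (inv_mem (hTR ht))) hc)) (mem_sup_right ht)
  have hle : C ⊔ T ≤ SS H V₁ E ⊔ T := by
    refine le_of_forall le_sup_right ?_ fun P hP hPX => hsplit P hPX hP.le (Or.inl hP)
    exact hsplit _ inf_le_left (le_inf le_sup_right le_normalizer) (Or.inr inf_le_right)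
  have hST : T ≤ normalizer (SS H V₁ E : Set G) := by
    intro t ht
    have key : ∀ s ∈ T, ∀ c, c ∈ SS H V₁ E → s * c * s⁻¹ ∈ SS H V₁ E := by
      intro s hs c hc
      obtain ⟨hc1, hc2⟩ := mem_SS.1 hc
      refine mem_SS.2 ⟨mem_inf.1 ((mem_normalizer_iff.1 (hCT hs) c).1 (mem_inf.2 hc1)), fun l hl => ?_⟩
      have h1 : s⁻¹ * l * s ∈ E := by
        have h2 := (mem_normalizer_iff.1 (inv_mem (hTE hs)) l).1 hl
        rwa [inv_inv] at h2
      have h2 := mul_mem (mul_mem (hTH hs) (hc2 _ h1)) (inv_mem (hTH hs))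
      have e : s * ((s⁻¹ * l * s)⁻¹ * c * (s⁻¹ * l * s)) * s⁻¹ = l⁻¹ * (s * c * s⁻¹) * l := by group
      rwa [e] at h2
    rw [mem_normalizer_iff]
    intro c
    refine ⟨key t ht c, fun hc => ?_⟩
    have h1 := key t⁻¹ (inv_mem ht) _ hc
    have e : t⁻¹ * (t * c * t⁻¹) * t⁻¹⁻¹ = c := by group
    rwa [e] at h1
  have hgS : g ∈ SS H V₁ E := by
    obtain ⟨s, hs, t, ht, rfl⟩ := (mem_sup_of_normal_right' hST).1 (hle (mem_sup_left hg))
    have h1 : t ∈ C := by
      have h2 := mul_mem (inv_mem (mem_inf.2 (mem_SS.1 hs).1 : s ∈ C)) hg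
      have e : s⁻¹ * (s * t) = t := by group
      rwa [e] at h2
    exact mul_mem hs (hone T le_sup_right le_rfl (Or.inr le_normalizer) t ht h1)
  exact mem_inf.2 ⟨(mem_SS.1 hgS).2 l hl, conj_cent (hE hl) (mem_inf.1 hg).2⟩

/-- **(G')** No `K ≤ C(V₁)` normalised by `H` moves `z`, if the 2-group `⟨z^H⟩` cannot be normalised by `H` and
`E`. -/
theorem not_le (hTH : T ≤ H) (hTV : T ≤ normalizer (V₁ : Set G)) (hTE : T ≤ normalizer (E : Set G))
    (hE : E ≤ normalizer (V₁ : Set G)) (hEz : ∀ l ∈ E, l * z = z * l)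
    (hcz : centralizer (V₁ : Set G) ⊓ centralizer {z} ≤ H)
    (typ : ∀ R : Subgroup G, R ≤ H ⊓ centralizer (V₁ : Set G) ⊔ T → T ≤ R →
      (IsMinPar T R ∨ R ≤ normalizer (T : Set G)) → ∀ g ∈ R, g ∈ centralizer (V₁ : Set G) →
        ∀ l ∈ E, l * (g * z * g⁻¹) = g * z * g⁻¹ * l)
    (qp : H ≤ K ⊔ D) (hD : ∀ d ∈ D, d * z = z * d) (hKH : K ≤ H) (hHK : H ≤ normalizer (K : Set G))
    (hDH : D ≤ H)
    (nl : ∀ U : Subgroup G, U = closure {x | ∃ h ∈ H, x = h * z * h⁻¹} → H ≤ normalizer (U : Set G) →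
      ¬ E ≤ normalizer (U : Set G)) : ¬ K ≤ centralizer (V₁ : Set G) := by
  intro hK
  set U := closure {x | ∃ h ∈ H, x = h * z * h⁻¹} with hU
  have hnorm : ∀ L : Subgroup G, (∀ l ∈ L, ∀ h ∈ H, l * (h * z * h⁻¹) * l⁻¹ ∈ U) →
      L ≤ normalizer (U : Set G) := by
    intro L hL l hl
    have key : ∀ l ∈ L, ∀ u ∈ U, l * u * l⁻¹ ∈ U := by
      intro l hl u hu
      have h1 : U ≤ U.comap (MulAut.conj l).toMonoidHom := by
        rw [hU, closure_le]
        rintro _ ⟨h, hh, rfl⟩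
        exact hL l hl h hh
      exact h1 hu
    rw [mem_normalizer_iff]
    intro u
    refine ⟨key l hl u, fun hu => ?_⟩
    have h1 := key l⁻¹ (inv_mem hl) _ hu
    have e : l⁻¹ * (l * u * l⁻¹) * l⁻¹⁻¹ = u := by group
    rwa [e] at h1
  refine nl U rfl (hnorm H fun l hl h hh => subset_closure ⟨l * h, mul_mem hl hh, by group⟩) (hnorm E ?_)
  intro l hl h hh
  obtain ⟨k, hk, d, hd, rfl⟩ := (mem_sup_of_normal_right' (hDH.trans hHK)).1 (qp hh)
  have h1 : k * d * z * (k * d)⁻¹ = k * z * k⁻¹ := by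
    calc k * d * z * (k * d)⁻¹ = k * (d * z) * d⁻¹ * k⁻¹ := by group
      _ = k * (z * d) * d⁻¹ * k⁻¹ := by rw [hD d hd]
      _ = k * z * k⁻¹ := by group
  rw [h1]
  have hTE' : ∀ l ∈ E, l⁻¹ ∈ E := fun l hl => inv_mem hl
  have h2 := conj_mem hTH hTV hTE hE hEz hcz typ (mem_inf.2 ⟨hKH hk, hK hk⟩) (hTE' l hl)
  rw [inv_inv] at h2
  refine subset_closure ⟨l * k * l⁻¹, (mem_inf.1 h2).1, ?_⟩
  have h3 := hEz l hl
  calc l * (k * z * k⁻¹) * l⁻¹ = l * k * l⁻¹ * (l * z) * k⁻¹ * l⁻¹ := by group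
    _ = l * k * l⁻¹ * (z * l) * k⁻¹ * l⁻¹ := by rw [h3]
    _ = l * k * l⁻¹ * z * (l * k * l⁻¹)⁻¹ := by group

end Cfsg.Agent.Omega.NO3S.ESym.GP

end

section


/-!
# SymManyL (E): Thompson's inequality and exactness (helper266)

`A ∈ AA O`, `W ≤ O` elementary abelian.
* `thompson` : `|W : C_W(A)| ≤ |A : C_A(W)|`;
* `sup_mem_AA` : if `|A : C_A(W)| ≤ |W : C_W(A)|` then `C_A(W) W ∈ AA O`;
* `le_of_centralizes` : if `A` centralises `W` then `W ≤ A`.
-/

set_option autoImplicit false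

namespace Cfsg.Agent.Omega.NO3S.ESym

open Subgroup Cfsg Cfsg.Agent.ZN Cfsg.Agent.ZN.ChoiceBase Cfsg.Agent.PLocal.ElemAbSup
open Cfsg.Agent.PLocal.ThompsonJ

variable {G : Type*} [Group G]

theorem ea_comm {A : Subgroup G} (hA : IsElementaryAbelian 2 A) {x y : G} (hx : x ∈ A) (hy : y ∈ A) :
    x * y = y * x := isElementaryAbelian_comm hA hx hy

theorem ea_sq {A : Subgroup G} (hA : IsElementaryAbelian 2 A) {x : G} (hx : x ∈ A) : x ^ 2 = 1 :=
  isElementaryAbelian_pow hA hx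

theorem card_rel [Finite G] (A B : Subgroup G) :
    (centralizer (B : Set G)).relIndex A * Nat.card (A ⊓ centralizer (B : Set G) : Subgroup G) = Nat.card A := by
  have h1 := relIndex_inf_mul_relIndex (⊥ : Subgroup G) (centralizer (B : Set G)) A
  rw [relIndex_bot_left, bot_inf_eq, relIndex_bot_left, mul_comm, inf_comm] at h1
  exact h1

/-- the product `C_A(W) W` -/
def cw (A W : Subgroup G) : Subgroup G := (A ⊓ centralizer (W : Set G)) ⊔ W

theorem cw_ea {A W : Subgroup G} (hA : IsElementaryAbelian 2 A) (hW : IsElementaryAbelian 2 W) :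
    IsElementaryAbelian 2 (cw A W) :=
  isElementaryAbelian_sup (isElementaryAbelian_mono hA inf_le_left) hW (by
    rw [le_centralizer_iff]; exact inf_le_right)

theorem card_cw {A W : Subgroup G} :
    Nat.card (cw A W) * Nat.card ((A ⊓ centralizer (W : Set G)) ⊓ W : Subgroup G) =
      Nat.card (A ⊓ centralizer (W : Set G) : Subgroup G) * Nat.card W :=
  card_sup_mul_card_inf (by rw [le_centralizer_iff]; exact inf_le_right)

theorem cw_le {A W O : Subgroup G} (hA : A ≤ O) (hW : W ≤ O) : cw A W ≤ O := sup_le (inf_le_left.trans hA) hW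

theorem inf_le_cent {A W : Subgroup G} (hA : IsElementaryAbelian 2 A) :
    (A ⊓ centralizer (W : Set G)) ⊓ W ≤ W ⊓ centralizer (A : Set G) := by
  rintro x ⟨⟨h1, -⟩, h2⟩
  exact ⟨h2, mem_centralizer_iff.2 fun a ha => ea_comm hA ha h1⟩

/-- **Thompson's inequality** -/
theorem thompson [Finite G] {O A W : Subgroup G} (hA : A ∈ AA O) (hW : IsElementaryAbelian 2 W) (hWO : W ≤ O) :
    (centralizer (A : Set G)).relIndex W ≤ (centralizer (W : Set G)).relIndex A := by
  have h1 := hA.2.2 _ (cw_ea hA.1 hW) (cw_le hA.2.1 hWO)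
  have h2 := card_cw (A := A) (W := W)
  have h3 := card_rel W A
  have h4 := card_rel A W
  have h5 := card_le_of_le (inf_le_cent (W := W) hA.1)
  have p1 : 0 < Nat.card (A ⊓ centralizer (W : Set G) : Subgroup G) := Nat.card_pos
  have p2 : 0 < Nat.card (W ⊓ centralizer (A : Set G) : Subgroup G) := Nat.card_pos
  refine Nat.le_of_mul_le_mul_right ?_ (Nat.mul_pos p1 p2)
  calc (centralizer (A : Set G)).relIndex W * (Nat.card (A ⊓ centralizer (W : Set G) : Subgroup G) *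
        Nat.card (W ⊓ centralizer (A : Set G) : Subgroup G))
      = Nat.card (A ⊓ centralizer (W : Set G) : Subgroup G) * ((centralizer (A : Set G)).relIndex W *
        Nat.card (W ⊓ centralizer (A : Set G) : Subgroup G)) := by ring
    _ = Nat.card (cw A W) * Nat.card ((A ⊓ centralizer (W : Set G)) ⊓ W : Subgroup G) := by rw [h3, h2]
    _ ≤ Nat.card A * Nat.card (W ⊓ centralizer (A : Set G) : Subgroup G) := Nat.mul_le_mul h1 h5
    _ = _ := by rw [← h4]; ring

/-- **exactness** -/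
theorem sup_mem_AA [Finite G] {O A W : Subgroup G} (hA : A ∈ AA O) (hW : IsElementaryAbelian 2 W) (hWO : W ≤ O)
    (hno : (centralizer (W : Set G)).relIndex A ≤ (centralizer (A : Set G)).relIndex W) : cw A W ∈ AA O := by
  refine ⟨cw_ea hA.1 hW, cw_le hA.2.1 hWO, fun B hB hBO => (hA.2.2 B hB hBO).trans ?_⟩
  have h2 := card_cw (A := A) (W := W)
  have h3 := card_rel W A
  have h4 := card_rel A W
  have h5 := card_le_of_le (inf_le_cent (W := W) hA.1)
  have p2 : 0 < Nat.card ((A ⊓ centralizer (W : Set G)) ⊓ W : Subgroup G) := Nat.card_pos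
  refine Nat.le_of_mul_le_mul_right ?_ p2
  calc Nat.card A * Nat.card ((A ⊓ centralizer (W : Set G)) ⊓ W : Subgroup G)
      ≤ Nat.card A * Nat.card (W ⊓ centralizer (A : Set G) : Subgroup G) := Nat.mul_le_mul_left _ h5
    _ = (centralizer (W : Set G)).relIndex A * (Nat.card (A ⊓ centralizer (W : Set G) : Subgroup G) *
        Nat.card (W ⊓ centralizer (A : Set G) : Subgroup G)) := by rw [← h4]; ring
    _ ≤ (centralizer (A : Set G)).relIndex W * (Nat.card (A ⊓ centralizer (W : Set G) : Subgroup G) *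
        Nat.card (W ⊓ centralizer (A : Set G) : Subgroup G)) := Nat.mul_le_mul_right _ hno
    _ = Nat.card (A ⊓ centralizer (W : Set G) : Subgroup G) * Nat.card W := by rw [← h3]; ring
    _ = _ := h2.symm

/-- an elementary abelian subgroup of `O` centralised by `A ∈ AA O` is in `A` -/
theorem le_of_centralizes [Finite G] {O A W : Subgroup G} (hA : A ∈ AA O) (hW : IsElementaryAbelian 2 W)
    (hWO : W ≤ O) (hc : W ≤ centralizer (A : Set G)) : W ≤ A := by
  have h1 : IsElementaryAbelian 2 (A ⊔ W) := isElementaryAbelian_sup hA.1 hW hc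
  have h2 := hA.2.2 _ h1 (sup_le hA.2.1 hWO)
  have h3 : A = A ⊔ W := eq_of_le_of_card_ge le_sup_left h2
  rw [h3]
  exact le_sup_right

/-- `AA` of a smaller group -/
theorem mem_AA_of_le {O Q A : Subgroup G} (hA : A ∈ AA O) (hAQ : A ≤ Q) (hQ : Q ≤ O) : A ∈ AA Q :=
  ⟨hA.1, hAQ, fun B hB hBQ => hA.2.2 B hB (hBQ.trans hQ)⟩

theorem mem_AA_of_mem [Finite G] {O Q A B : Subgroup G} (hA : A ∈ AA O) (hAQ : A ≤ Q) (hQ : Q ≤ O) (hB : B ∈ AA Q) :
    B ∈ AA O :=
  ⟨hB.1, hB.2.1.trans hQ, fun C hC hCO => (hA.2.2 C hC hCO).trans (hB.2.2 A hA.1 hAQ)⟩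

end Cfsg.Agent.Omega.NO3S.ESym

end

section


/-!
# SymMany (E): the types (ii) of minimal parabolics (bb #22692 (6) (ii)), abstract part

* `two` : a minimal parabolic `R` over `T` which normalises `V₁` and `W`, `T = (T ∩ C(V₁)) (T ∩ C(W))`: the elements of
  odd order of `R` centralise `V₁`, or `R` centralises `C_W(T)`;
* `nt` : an element of odd order which normalises `T` and `V₁` centralises `V₁`, if some `c ∈ T` has
  `|C_{V₁}(c)| ≤ 2`.
-/

set_option autoImplicit false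

namespace Cfsg.Agent.Omega.NO3S.ESym.TypTwo

open Subgroup Cfsg Cfsg.Agent.MinSimple.MinParabolic
open Cfsg.Agent.ZN (o2)
open Cfsg.Agent.ZN.ChoiceSit (Syl o2_le_syl le_normalizer_o2 syl_not_dvd)
open Cfsg.Agent.Omega.NO3S.ESym.GP (mem_sup_of_normal_right')
open scoped Pointwise commutatorElement

universe u

variable {G : Type u} [Group G] [Finite G] {T R V₁ W : Subgroup G}

omit [Finite G] in
theorem norm_inf_cent {X : Subgroup G} (hX : R ≤ normalizer (X : Set G)) :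
    R ≤ normalizer ((R ⊓ centralizer (X : Set G) : Subgroup G) : Set G) := by
  have key : ∀ r ∈ R, ∀ c, c ∈ R ⊓ centralizer (X : Set G) → r * c * r⁻¹ ∈ R ⊓ centralizer (X : Set G) := by
    rintro r hr c ⟨h1, h2⟩
    refine mem_inf.2 ⟨mul_mem (mul_mem hr h1) (inv_mem hr), ?_⟩
    have h3 := GP.conj_cent (inv_mem (hX hr)) h2
    rwa [inv_inv] at h3
  intro r hr
  rw [mem_normalizer_iff]
  intro c
  refine ⟨key r hr c, fun hc => ?_⟩
  have h1 := key r⁻¹ (inv_mem hr) _ hc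
  have e : r⁻¹ * (r * c * r⁻¹) * r⁻¹⁻¹ = c := by group
  rwa [e] at h1

omit [Finite G] in
/-- an element of odd order of `N T`, `T` a 2-group normalising `N`, lies in `N` -/
theorem odd_mem {N : Subgroup G} (hT : IsPGroup 2 T) (hTN : T ≤ normalizer (N : Set G)) {g : G}
    (hg : g ∈ N ⊔ T) (ho : Odd (orderOf g)) : g ∈ N := by
  have hNn : (N ⊔ T) ≤ normalizer (N : Set G) := sup_le le_normalizer hTN
  have h1 : ∀ x ∈ N ⊔ T, ∃ n : ℕ, x ^ 2 ^ n ∈ N := by
    intro x hx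
    obtain ⟨c, hc, t, ht, rfl⟩ := (mem_sup_of_normal_right' hTN).1 hx
    obtain ⟨n, hn⟩ := hT ⟨t, ht⟩
    have hn' : t ^ 2 ^ n = 1 := by simpa using congrArg Subtype.val hn
    have h2 : ∀ k : ℕ, (c * t) ^ k * (t ^ k)⁻¹ ∈ N := by
      intro k
      induction k with
      | zero => simp
      | succ k ih =>
        have e : (c * t) ^ (k + 1) * (t ^ (k + 1))⁻¹ =
            ((c * t) ^ k * (t ^ k)⁻¹) * (t ^ k * c * (t ^ k)⁻¹) := by
          rw [pow_succ, pow_succ]; group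
        rw [e]
        exact mul_mem ih ((mem_normalizer_iff.1 (hTN (pow_mem ht k)) c).1 hc)
    refine ⟨n, ?_⟩
    have h3 := h2 (2 ^ n)
    rwa [hn', inv_one, mul_one] at h3
  obtain ⟨n, hn⟩ := h1 g hg
  have hco : Nat.Coprime (orderOf g) (2 ^ n) := (Nat.coprime_two_right.2 ho).pow_right n
  obtain ⟨m, hm⟩ := exists_pow_eq_self_of_coprime hco.symm
  rw [← hm]
  exact pow_mem hn m

/-- **Type (ii)** -/
theorem two (h : IsMinPar T R) (hT : Syl T R) (hV : R ≤ normalizer (V₁ : Set G))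
    (hW : R ≤ normalizer (W : Set G))
    (split : T ≤ T ⊓ centralizer (V₁ : Set G) ⊔ T ⊓ centralizer (W : Set G)) :
    (∀ g ∈ R, Odd (orderOf g) → g ∈ centralizer (V₁ : Set G)) ∨
      ∀ r ∈ R, ∀ w ∈ W, (∀ t ∈ T, t * w = w * t) → r * w = w * r := by
  have hN : ∀ X : Subgroup G, R ≤ normalizer (X : Set G) →
      R ≤ (R ⊓ centralizer (X : Set G)) ⊔ T ∨ T ⊓ centralizer (X : Set G) ≤ o2 R := by
    intro X hX
    rcases h.sup_eq_or_inf_le hT.2.1 (syl_not_dvd hT) inf_le_left (norm_inf_cent hX) with h1 | h1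
    · exact Or.inl h1.ge
    · exact Or.inr fun x hx => h1 (mem_inf.2 ⟨(mem_inf.1 hx).1, mem_inf.2 ⟨hT.1 (mem_inf.1 hx).1, (mem_inf.1 hx).2⟩⟩)
  rcases hN V₁ hV with h1 | h1
  · left
    intro g hg ho
    exact (mem_inf.1 (odd_mem hT.2.1 (hT.1.trans (norm_inf_cent hV)) (h1 hg) ho)).2
  rcases hN W hW with h2 | h2
  · right
    intro r hr w hw hwT
    obtain ⟨c, hc, t, ht, rfl⟩ := (mem_sup_of_normal_right' (hT.1.trans (norm_inf_cent hW))).1 (h2 hr)
    have e1 : w * c = c * w := (mem_centralizer_iff.1 (mem_inf.1 hc).2) w hw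
    calc c * t * w = c * (t * w) := by group
      _ = c * (w * t) := by rw [hwT t ht]
      _ = w * c * t := by rw [e1]; group
      _ = w * (c * t) := by group
  · exfalso
    refine h.not_le ?_
    have e : T = o2 R := le_antisymm (split.trans (sup_le h1 h2)) (o2_le_syl hT)
    rw [e]
    exact le_normalizer_o2 R

/-- `|X : [X, T]| ≤ 2` if `c ∈ T` fixes at most two elements of the abelian group `X` -/
theorem card_comm_le {X T : Subgroup G} (hX : ∀ v ∈ X, ∀ w ∈ X, v * w = w * v) (hTX : T ≤ normalizer (X : Set G))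
    {c : G} (hc : c ∈ T) (hc2 : Nat.card ↥(X ⊓ centralizer {c}) ≤ 2) :
    Nat.card X ≤ 2 * Nat.card ↥⁅X, T⁆ := by
  have hcX : ∀ x ∈ X, c * x * c⁻¹ ∈ X := fun x hx => (mem_normalizer_iff.1 (hTX hc) x).1 hx
  have hm : ∀ x ∈ X, x * c * x⁻¹ * c⁻¹ ∈ X := by
    intro x hx
    have e : x * c * x⁻¹ * c⁻¹ = x * (c * x⁻¹ * c⁻¹) := by group
    rw [e]
    exact mul_mem hx (hcX _ (inv_mem hx))
  let φ : X →* G :=
    { toFun := fun x => (x : G) * c * (x : G)⁻¹ * c⁻¹
      map_one' := by simp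
      map_mul' := by
        rintro ⟨x, hx⟩ ⟨y, hy⟩
        have h1 : x * (y * c * y⁻¹ * c⁻¹) = y * c * y⁻¹ * c⁻¹ * x := hX _ hx _ (hm y hy)
        have h2 : x * c * x⁻¹ * c⁻¹ * (y * c * y⁻¹ * c⁻¹) = y * c * y⁻¹ * c⁻¹ * (x * c * x⁻¹ * c⁻¹) :=
          hX _ (hm x hx) _ (hm y hy)
        change x * y * c * (x * y)⁻¹ * c⁻¹ = x * c * x⁻¹ * c⁻¹ * (y * c * y⁻¹ * c⁻¹)
        rw [h2]
        calc x * y * c * (x * y)⁻¹ * c⁻¹ = x * (y * c * y⁻¹ * c⁻¹) * (c * x⁻¹ * c⁻¹) := by group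
          _ = y * c * y⁻¹ * c⁻¹ * x * (c * x⁻¹ * c⁻¹) := by rw [h1]
          _ = y * c * y⁻¹ * c⁻¹ * (x * c * x⁻¹ * c⁻¹) := by group }
  have h1 : φ.range ≤ ⁅X, T⁆ := by
    rintro _ ⟨⟨x, hx⟩, rfl⟩
    exact commutator_mem_commutator hx hc
  have h2 : Nat.card φ.ker ≤ 2 := by
    refine le_trans ?_ hc2
    refine Nat.card_le_card_of_injective
      (fun x : φ.ker => (⟨(x : X), mem_inf.2 ⟨(x : X).2, GP.mem_cz.2 ?_⟩⟩ : ↥(X ⊓ centralizer {c}))) ?_
    · have h3 : ((x : X) : G) * c * ((x : X) : G)⁻¹ * c⁻¹ = 1 := x.2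
      have h4 : ((x : X) : G) * c = c * ((x : X) : G) := by
        have := congrArg (fun y => y * (c * ((x : X) : G))) h3
        simpa [mul_assoc] using this
      exact h4
    · intro x y hxy
      have := congrArg (fun z : ↥(X ⊓ centralizer {c}) => (z : G)) hxy
      exact Subtype.ext (Subtype.ext this)
  have h3 : Nat.card φ.range ≤ Nat.card ↥⁅X, T⁆ := Nat.card_le_card_of_injective _ (inclusion_injective h1)
  calc Nat.card X = Nat.card φ.ker * φ.ker.index := (card_mul_index _).symm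
    _ = Nat.card φ.ker * Nat.card φ.range := by rw [index_ker]
    _ ≤ 2 * Nat.card ↥⁅X, T⁆ := Nat.mul_le_mul h2 h3

omit [Finite G] in
theorem mul_mem_of_card [Finite G] {X Y : Subgroup G} (hY : Y ≤ X) (h : Nat.card X ≤ 2 * Nat.card Y) {x y : G}
    (hx : x ∈ X) (hy : y ∈ X) (hxy : x ∈ Y ↔ y ∈ Y) : x * y⁻¹ ∈ Y := by
  by_cases hx' : x ∈ Y
  · exact mul_mem hx' (inv_mem (hxy.1 hx'))
  have hy' : y ∉ Y := fun h => hx' (hxy.2 h)
  have h1 : Nat.card Y * Y.relIndex X = Nat.card X := by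
    rw [relIndex, ← card_mul_index (Y.subgroupOf X), Nat.card_congr (subgroupOfEquivOfLe hY).toEquiv]
  have h2 : Y.relIndex X = 2 := by
    have h3 : Y.relIndex X ≤ 2 := by
      have h4 : 0 < Nat.card Y := Nat.card_pos
      rw [← h1, mul_comm] at h
      exact Nat.le_of_mul_le_mul_right h h4
    have h4 : Y.relIndex X ≠ 1 := fun e => hx' (relIndex_eq_one.1 e hx)
    have h5 : Y.relIndex X ≠ 0 := by
      intro e
      rw [e, mul_zero] at h1
      exact Nat.card_pos.ne h1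
    omega
  have h3 := mul_mem_iff_of_index_two (H := Y.subgroupOf X) h2 (a := ⟨x, hx⟩) (b := ⟨y, hy⟩⁻¹)
  have h4 : (⟨x, hx⟩ : X) * ⟨y, hy⟩⁻¹ ∈ Y.subgroupOf X := by
    rw [h3]
    simp only [inv_mem_iff, mem_subgroupOf]
    tauto
  simpa [mem_subgroupOf] using h4

/-- **`N(T)`**: an element of odd order which normalises `T` and `V₁` centralises `V₁`, if some `c ∈ T` fixes at most
two elements of the elementary abelian 2-group `V₁`. -/
theorem nt (hV : ∀ v ∈ V₁, ∀ w ∈ V₁, v * w = w * v) (hV2 : IsPGroup 2 V₁) (hT : IsPGroup 2 T)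
    (hTV : T ≤ normalizer (V₁ : Set G)) {c : G} (hc : c ∈ T) (hc2 : Nat.card ↥(V₁ ⊓ centralizer {c}) ≤ 2) {g : G}
    (hgT : g ∈ normalizer (T : Set G)) (hgV : g ∈ normalizer (V₁ : Set G)) (ho : Odd (orderOf g)) :
    g ∈ centralizer (V₁ : Set G) := by
  have hnil : Group.IsNilpotent ↥(V₁ ⊔ T) := by
    have h1 : IsPGroup 2 ↥(V₁ ⊔ T) := IsPGroup.to_sup_of_normal_left' hV2 hT hTV
    exact h1.isNilpotent
  have key : ∀ n : ℕ, ∀ X : Subgroup G, Nat.card X = n → X ≤ V₁ → T ≤ normalizer (X : Set G) →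
      g ∈ normalizer (X : Set G) → (∀ v ∈ V₁, g * v * g⁻¹ * v⁻¹ ∈ X) → g ∈ centralizer (V₁ : Set G) := by
    intro n
    induction n using Nat.strong_induction_on with
    | _ n IH =>
      intro X hn hXV hTX hgX hgv
      by_cases hX : X = ⊥
      · rw [mem_centralizer_iff]
        intro v hv
        have h1 := hgv v hv
        rw [hX, mem_bot] at h1
        have h2 : g * v = v * g := by
          have := congrArg (fun y => y * (v * g)) h1
          simpa [mul_assoc] using this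
        exact h2.symm
      have hlt : ⁅X, T⁆ < X :=
        Cfsg.Agent.PLocal.Uniserial.commutator_lt (V₁ ⊔ T) T X hnil le_sup_right (hXV.trans le_sup_left) hTX hX
      have hXc : ∀ v ∈ X, ∀ w ∈ X, v * w = w * v := fun v hv w hw => hV v (hXV hv) w (hXV hw)
      have hcard : Nat.card X ≤ 2 * Nat.card ↥⁅X, T⁆ := by
        refine card_comm_le hXc hTX hc (le_trans (Nat.card_le_card_of_injective _
          (inclusion_injective (inf_le_inf_right _ hXV))) hc2)
      have hgY : ∀ x ∈ ⁅X, T⁆, g * x * g⁻¹ ∈ ⁅X, T⁆ := by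
        have h1 : ⁅X, T⁆ ≤ ⁅X, T⁆.comap (MulAut.conj g).toMonoidHom := by
          rw [commutator_le]
          intro x hx t ht
          change g * (x * t * x⁻¹ * t⁻¹) * g⁻¹ ∈ ⁅X, T⁆
          have e : g * (x * t * x⁻¹ * t⁻¹) * g⁻¹ = ⁅g * x * g⁻¹, g * t * g⁻¹⁆ := by
            rw [commutatorElement_def]; group
          rw [e]
          exact commutator_mem_commutator ((mem_normalizer_iff.1 hgX x).1 hx) ((mem_normalizer_iff.1 hgT t).1 ht)
        exact fun x hx => h1 hx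
      have hgY' : g ∈ normalizer ((⁅X, T⁆ : Subgroup G) : Set G) := by
        refine mem_normalizer_iff.2 fun x => ⟨hgY x, fun hx => ?_⟩
        have hk : ∀ k : ℕ, ∀ x ∈ ⁅X, T⁆, g ^ k * x * (g ^ k)⁻¹ ∈ ⁅X, T⁆ := by
          intro k
          induction k with
          | zero => intro x hx; simpa using hx
          | succ k ih =>
            intro x hx
            have e : g ^ (k + 1) * x * (g ^ (k + 1))⁻¹ = g * (g ^ k * x * (g ^ k)⁻¹) * g⁻¹ := by
              rw [pow_succ']; group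
            rw [e]
            exact hgY _ (ih x hx)
        have h2 := hk (orderOf g - 1) _ hx
        have h3 : g ^ (orderOf g - 1) = g⁻¹ := by
          rw [eq_inv_iff_mul_eq_one, ← pow_succ, Nat.sub_add_cancel (orderOf_pos g), pow_orderOf_eq_one]
        rw [h3] at h2
        have e : g⁻¹ * (g * x * g⁻¹) * g⁻¹⁻¹ = x := by group
        rwa [e] at h2
      refine IH _ ?_ ⁅X, T⁆ rfl (hlt.le.trans hXV) (normalizer_commutator_ge_right _ _) hgY' fun v hv => ?_
      · rw [← hn]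
        refine lt_of_le_of_ne (Nat.le_of_dvd Nat.card_pos (card_dvd_of_le hlt.le)) fun e => ?_
        exact hlt.ne (eq_of_le_of_card_ge hlt.le e.ge)
      -- `g` is trivial on `X / [X, T]`
      have htr : ∀ x ∈ X, g * x * g⁻¹ * x⁻¹ ∈ ⁅X, T⁆ := fun x hx =>
        mul_mem_of_card hlt.le hcard ((mem_normalizer_iff.1 hgX x).1 hx) hx (mem_normalizer_iff.1 hgY' x).symm
      set w := g * v * g⁻¹ * v⁻¹ with hw
      have hwX : w ∈ X := hgv v hv
      have hk : ∀ k : ℕ, g ^ k * v * (g ^ k)⁻¹ * v⁻¹ * (w ^ k)⁻¹ ∈ ⁅X, T⁆ := by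
        intro k
        induction k with
        | zero => simp
        | succ k ih =>
          have h1 := hgY _ ih
          have h2 := htr (w ^ k) (pow_mem hwX k)
          have h3 := mul_mem h1 h2
          have e1 : v⁻¹ * g⁻¹ = g⁻¹ * v⁻¹ * w⁻¹ := by rw [hw]; group
          have h4 : g ^ (k + 1) * v * (g ^ (k + 1))⁻¹ * v⁻¹ * (w ^ (k + 1))⁻¹ =
              g * (g ^ k * v * (g ^ k)⁻¹ * v⁻¹ * (w ^ k)⁻¹) * g⁻¹ * (g * w ^ k * g⁻¹ * (w ^ k)⁻¹) := by
            calc g ^ (k + 1) * v * (g ^ (k + 1))⁻¹ * v⁻¹ * (w ^ (k + 1))⁻¹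
                = g * g ^ k * v * (g ^ k)⁻¹ * (g⁻¹ * v⁻¹ * w⁻¹) * (w ^ k)⁻¹ := by
                  rw [pow_succ' g, pow_succ w]; group
              _ = g * g ^ k * v * (g ^ k)⁻¹ * (v⁻¹ * g⁻¹) * (w ^ k)⁻¹ := by rw [e1]
              _ = _ := by group
          rw [h4]
          exact h3
      have h1 := hk (orderOf g)
      rw [pow_orderOf_eq_one] at h1
      have e2 : (1 : G) * v * 1⁻¹ * v⁻¹ * (w ^ orderOf g)⁻¹ = (w ^ orderOf g)⁻¹ := by group
      rw [e2, inv_mem_iff] at h1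
      have h2 : w * w⁻¹⁻¹ ∈ ⁅X, T⁆ := mul_mem_of_card hlt.le hcard hwX (inv_mem hwX) (inv_mem_iff).symm
      rw [inv_inv] at h2
      obtain ⟨j, hj⟩ := ho
      have e3 : w ^ orderOf g = (w * w) ^ j * w := by
        rw [hj, pow_succ, pow_mul, pow_two]
      rw [e3] at h1
      exact (mul_mem_cancel_left (pow_mem h2 j)).1 h1
  exact key _ V₁ rfl le_rfl hTV hgV fun v hv =>
    mul_mem ((mem_normalizer_iff.1 hgV v).1 hv) (inv_mem hv)

end Cfsg.Agent.Omega.NO3S.ESym.TypTwo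

end
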